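import Cfsg.Agent.H797.FQ.OC3
import Cfsg.Agent.H744.FC.CentTheta
import Cfsg.Agent.KFacts.RgdVJ
import Cfsg.Agent.KFacts.RgdLieCharP
import Cfsg.Agent.S1054

/-!
# The radical of the parabolic subgroup of type `C₃` of `F₄(q)`, `q` odd, is of Heisenberg type (S2452)

`θ = vec chevF4 4 47`, `V = VK K {k | k ≠ 3}` (order `q ^ 15`), `xh t = x_θ(t)`.

* `mem`, `cen`, `com`, `nd`, `cv`, `scal` : the fields of the structures of helper210 and helper980;
* `range_xh` : the range of `xh` is `XT K`;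
* `hei_norm` : `PK K {k | k ≠ 3}` normalises `V`, `hei_act` : it acts on `XT K` by scalars.
-/

set_option autoImplicit false
set_option linter.unusedSectionVars false

namespace Cfsg.Agent.H374.FR.Comm

open CoxeterSystem Cfsg.Agent.ChevalleyStructure.CoxeterGeom Cfsg.Agent.Tits.Roots Cfsg.Agent.Tits.Core
  Cfsg.Agent.Tits.Exchange Cfsg.Agent.Nodes.Reps Cfsg.Agent.Nodes.BNOf Cfsg.Agent.Nodes.StabComb
  Cfsg.Agent.Nodes.Bruhat Cfsg.Agent.Nodes.OppDec Cfsg.Agent.Nodes.LeviDec Cfsg.Agent.Nodes.NormX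
  Cfsg.Agent.Nodes.Coroot Cfsg.Agent.Nodes.RGDChev Cfsg.Agent.KFacts.RgdPar Cfsg.Agent.KFacts.RgdTI
  Cfsg.Agent.KFacts.RgdCent Cfsg.Agent.KFacts.RgdChevCoord Cfsg.Agent.Nodes.ChevCls
  Cfsg.Agent.OddHalf.NI.ModelChev Cfsg.Agent.H225.PPow
open Cfsg.Lie Cfsg.Agent.ChevalleyStructure Cfsg.Agent.ChevalleyStructure.Elts
  Cfsg.Agent.ChevalleyStructure.RootVec Cfsg.Agent.ChevalleyStructure.NPerm
  Cfsg.Agent.ChevalleyStructure.CoxeterGeomTypes
open Cfsg.Agent.H701.F43.Cent (hF cF nroots isRoot_theta cart_theta cent comm_theta VV MM J3 idxV lt_idxV idxM)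
open Cfsg.Agent.H797.FQ
open Cfsg.Agent.H520.FC (PK VK XT)
open Cfsg.Agent.KFacts

universe u

variable {K : Type u} [Field K]

/-- structure constants -/
def nn (r s : ℕ) : ℤ := if r = s then 0 else ((chevF4.commTerms r s).map fun c => c.2.1).sum

theorem tabN : ∀ r ∈ L14, ∀ s ∈ L14, s ≠ r →
    s ≠ chevF4.neg r ∧ ((chevF4.commTerms r s = [] ∧ nn r s = 0) ∨ chevF4.commTerms r s = [(47, nn r s, 1, 1)]) := by
  decide +kernel

theorem tabP : ∀ s ∈ L14, ∃ r ∈ L14, (nn r s = 1 ∨ nn r s = -1 ∨ nn r s = 2 ∨ nn r s = -2) ∧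
    ∀ s' ∈ L14, s' ≠ s → nn r s' = 0 := by
  decide +kernel

theorem nn_self (r : ℕ) : nn r r = 0 := if_pos rfl

theorem e_comm {r s : ℕ} (hr : r ∈ L14) (hs : s ∈ L14) (x y : K) :
    e s x * e r y = e r y * e s x * e 47 (-((nn r s : ℤ) : K) * x * y) := by
  by_cases h : s = r
  · subst h
    rw [nn_self, Int.cast_zero, neg_zero, zero_mul, zero_mul]
    have h0 : (e 47 (0 : K)) = 1 := ex_zero hF 47
    rw [h0, mul_one]
    show ex hF s x * ex hF s y = ex hF s y * ex hF s x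
    rw [← ex_add hF, ← ex_add hF, add_comm]
  · obtain ⟨h1, h2⟩ := tabN r hr s hs h
    have h3 := ex_comm hF (lt_idxV r (L14_sub r hr)) (lt_idxV s (L14_sub s hs)) h h1 y x
    rcases h2 with ⟨h4, h5⟩ | h4
    · rw [h4, List.map_nil, List.prod_nil, mul_one] at h3
      rw [h5, Int.cast_zero, neg_zero, zero_mul, zero_mul, show (e 47 (0 : K)) = 1 from ex_zero hF 47, mul_one]
      exact h3
    · rw [h4, List.map_cons, List.map_nil, List.prod_cons, List.prod_nil, mul_one, pow_one, pow_one] at h3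
      rw [show -((nn r s : ℤ) : K) * x * y = ((nn r s : ℤ) : K) * (-y) * x by ring]
      exact h3

theorem E_comm_e {L : List ℕ} (hL : ∀ s ∈ L, s ∈ L14) (c : ℕ → K) {r : ℕ} (hr : r ∈ L14) (y : K) :
    E L c * e r y = e r y * E L c * e 47 ((L.map fun s => -((nn r s : ℤ) : K) * c s * y).sum) := by
  induction L with
  | nil => rw [E_nil, List.map_nil, List.sum_nil, show (e 47 (0 : K)) = 1 from ex_zero hF 47, mul_one, mul_one, one_mul]
  | cons s L ih =>
    have hL' : ∀ s ∈ L, s ∈ L14 := fun s hs => hL s (List.mem_cons_of_mem _ hs)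
    have h1 := ih hL'
    have h2 := e_comm hr (hL s List.mem_cons_self) (c s) y
    have h3 := e47_comm_E hL' c (-((nn r s : ℤ) : K) * c s * y)
    rw [E_cons, List.map_cons, List.sum_cons, ← e47_add, mul_assoc, h1]
    calc e s (c s) * (e r y * E L c * e 47 ((L.map fun s => -((nn r s : ℤ) : K) * c s * y).sum))
        = (e s (c s) * e r y) * E L c * e 47 ((L.map fun s => -((nn r s : ℤ) : K) * c s * y).sum) := by group
      _ = e r y * e s (c s) * (e 47 (-((nn r s : ℤ) : K) * c s * y) * E L c) *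
          e 47 ((L.map fun s => -((nn r s : ℤ) : K) * c s * y).sum) := by rw [h2]; group
      _ = e r y * e s (c s) * (E L c * e 47 (-((nn r s : ℤ) : K) * c s * y)) *
          e 47 ((L.map fun s => -((nn r s : ℤ) : K) * c s * y).sum) := by rw [h3]
      _ = _ := by group

/-- the form -/
noncomputable def om (L M : List ℕ) (c d : ℕ → K) : K :=
  (M.map fun r => (L.map fun s => -((nn r s : ℤ) : K) * c s * d r).sum).sum

theorem E_comm_E {L M : List ℕ} (hL : ∀ s ∈ L, s ∈ L14) (hM : ∀ s ∈ M, s ∈ L14) (c d : ℕ → K) :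
    E L c * E M d = E M d * E L c * e 47 (om L M c d) := by
  induction M with
  | nil =>
    unfold om
    rw [E_nil, List.map_nil, List.sum_nil, show (e 47 (0 : K)) = 1 from ex_zero hF 47, mul_one, mul_one, one_mul]
  | cons r M ih =>
    have hM' : ∀ s ∈ M, s ∈ L14 := fun s hs => hM s (List.mem_cons_of_mem _ hs)
    have h1 := ih hM'
    have h2 := E_comm_e hL c (hM r List.mem_cons_self) (d r)
    have h3 := e47_comm_E hM' d ((L.map fun s => -((nn r s : ℤ) : K) * c s * d r).sum)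
    have h4 : om L (r :: M) c d = om L M c d + (L.map fun s => -((nn r s : ℤ) : K) * c s * d r).sum := by
      unfold om
      rw [List.map_cons, List.sum_cons, add_comm]
    rw [E_cons, h4, ← e47_add]
    calc E L c * (e r (d r) * E M d) = (E L c * e r (d r)) * E M d := by group
      _ = e r (d r) * E L c * (e 47 ((L.map fun s => -((nn r s : ℤ) : K) * c s * d r).sum) * E M d) := by
        rw [h2]; group
      _ = e r (d r) * (E L c * E M d) * e 47 ((L.map fun s => -((nn r s : ℤ) : K) * c s * d r).sum) := by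
        rw [← h3]; group
      _ = _ := by rw [h1]; group

theorem om_smul (L M : List ℕ) (k : K) (c d : ℕ → K) : om L M (fun s => k * c s) d = k * om L M c d := by
  unfold om
  rw [← List.sum_map_mul_left]
  congr 1
  refine List.map_congr_left fun r _ => ?_
  rw [← List.sum_map_mul_left]
  congr 1
  exact List.map_congr_left fun s _ => by ring

theorem lt47 : 47 < chevF4.nroots := by rw [nroots]; norm_num

theorem xc_e (a : K) : xc hF (vec chevF4 4 47) a = e 47 a := Subtype.ext (coe_xc hF lt47 a)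

/-- `x_θ` -/
noncomputable def xh (K : Type u) [Field K] : Multiplicative K →* ↥(chevF4.group K) where
  toFun t := xc hF (vec chevF4 4 47) t.toAdd
  map_one' := by
    rw [toAdd_one, xc_e]
    exact ex_zero hF 47
  map_mul' a b := by
    rw [toAdd_mul, xc_e, xc_e, xc_e]
    exact ex_add hF 47 _ _

theorem xh_apply (t : K) : xh K (.ofAdd t) = xc hF (vec chevF4 4 47) t := rfl

theorem xh_e (t : K) : xh K (.ofAdd t) = e 47 t := xc_e t

theorem inj : Function.Injective (xh K) := fun _ _ h => Multiplicative.toAdd.injective (xc_inj hF lt47 h)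

theorem range_xh : (xh K).range = XT K := by
  ext z
  rw [mem_XX_vec hF lt47]
  constructor
  · rintro ⟨t, rfl⟩
    exact ⟨t.toAdd, (xc_e _).symm⟩
  · rintro ⟨t, rfl⟩
    exact ⟨.ofAdd t, xh_e t⟩

theorem mem (t : Multiplicative K) : xh K t ∈ VK K {k | k ≠ 3} := by
  have h : xh K t = e 47 t.toAdd := xh_e t.toAdd
  rw [h]
  exact e_mem_VV (by decide) _

theorem mem_range {z : ↥(chevF4.group K)} : z ∈ (xh K).range ↔ ∃ t : K, z = e 47 t :=
  ⟨fun ⟨t, h⟩ => ⟨t.toAdd, h.symm.trans (xh_e _)⟩, fun ⟨t, h⟩ => ⟨.ofAdd t, (xh_e t).trans h.symm⟩⟩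

variable {u v : ↥(chevF4.group K)}

/-- `e 47` is central in `V` -/
theorem cen_R {c : ℕ → K} (hu : R u c) (b : K) : u * e 47 b = e 47 b * u := by
  obtain ⟨a, rfl⟩ := hu
  have h1 := e47_comm_E (fun s hs => hs) c b (L := L14)
  rw [mul_assoc, e47_add, add_comm a b, ← e47_add, ← mul_assoc, h1, mul_assoc]

theorem cen (t : Multiplicative K) (q : ↥(chevF4.group K)) (hq : q ∈ VK K {k | k ≠ 3}) : q * xh K t = xh K t * q := by
  obtain ⟨c, hc⟩ := exists_R hq
  have h : xh K t = e 47 t.toAdd := xh_e t.toAdd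
  rw [h]
  exact cen_R hc _

theorem R_comm {c d : ℕ → K} (hu : R u c) (hv : R v d) : u * v = v * u * e 47 (om L14 L14 c d) := by
  have hu' := hu
  have hv' := hv
  obtain ⟨a, rfl⟩ := hu
  obtain ⟨b, rfl⟩ := hv
  have h1 := e47_comm_E (fun s hs => hs) d a (L := L14)
  have h2 := e47_comm_E (fun s hs => hs) c b (L := L14)
  have h3 := E_comm_E (fun s hs => hs) (fun s hs => hs) c d (L := L14) (M := L14)
  calc E L14 c * e 47 a * (E L14 d * e 47 b) = E L14 c * (e 47 a * E L14 d) * e 47 b := by group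
    _ = (E L14 c * E L14 d) * e 47 a * e 47 b := by rw [← h1]; group
    _ = E L14 d * E L14 c * (e 47 (om L14 L14 c d) * e 47 a * e 47 b) := by rw [h3]; group
    _ = E L14 d * E L14 c * (e 47 b * e 47 a * e 47 (om L14 L14 c d)) := by
      rw [e47_add, e47_add, e47_add, e47_add]
      congr 2
      ring
    _ = E L14 d * (E L14 c * e 47 b) * e 47 a * e 47 (om L14 L14 c d) := by group
    _ = _ := by rw [h2]; group

theorem R_commutator {c d : ℕ → K} (hu : R u c) (hv : R v d) : u * v * u⁻¹ * v⁻¹ = e 47 (om L14 L14 c d) := by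
  have h1 := cen_R (hv.mul hu) (om L14 L14 c d)
  rw [R_comm hu hv, h1]
  group

theorem com (a : ↥(chevF4.group K)) (ha : a ∈ VK K {k | k ≠ 3}) (b : ↥(chevF4.group K)) (hb : b ∈ VK K {k | k ≠ 3}) :
    a * b * a⁻¹ * b⁻¹ ∈ (xh K).range := by
  obtain ⟨c, hc⟩ := exists_R ha
  obtain ⟨d, hd⟩ := exists_R hb
  exact mem_range.2 ⟨_, R_commutator hc hd⟩

theorem com' (a : ↥(chevF4.group K)) (ha : a ∈ VK K {k | k ≠ 3}) (b : ↥(chevF4.group K)) (hb : b ∈ VK K {k | k ≠ 3}) :
    a * b * a⁻¹ * b⁻¹ ∈ XT K := by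
  rw [← range_xh]
  exact com a ha b hb

theorem nn_ne (h2 : (2 : K) ≠ 0) {r s : ℕ} (h : nn r s = 1 ∨ nn r s = -1 ∨ nn r s = 2 ∨ nn r s = -2) :
    ((nn r s : ℤ) : K) ≠ 0 := by
  rcases h with h | h | h | h <;> rw [h] <;> push_cast
  · exact one_ne_zero
  · exact neg_ne_zero.2 one_ne_zero
  · exact h2
  · exact neg_ne_zero.2 h2

/-- the form is non-degenerate -/
theorem nd (h2 : (2 : K) ≠ 0) (q : ↥(chevF4.group K)) (hq : q ∈ VK K {k | k ≠ 3}) (hn : q ∉ (xh K).range) (t : K) :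
    ∃ q' ∈ VK K {k | k ≠ 3}, q' * q * q'⁻¹ * q⁻¹ = xh K (.ofAdd t) := by
  obtain ⟨c, hc⟩ := exists_R hq
  obtain ⟨s, hs, hcs⟩ : ∃ s ∈ L14, c s ≠ 0 := by
    by_contra hcon
    push Not at hcon
    obtain ⟨b, hb⟩ := hc
    apply hn
    rw [mem_range]
    refine ⟨b, ?_⟩
    rw [hb, E_congr (d := (0 : ℕ → K)) hcon, E_zero, one_mul]
  obtain ⟨r, hr, h3, h4⟩ := tabP s hs
  have h5 := nn_ne h2 h3
  refine ⟨e r (t / (((nn r s : ℤ) : K) * c s)), e_mem_VV (L14_sub r hr) _, ?_⟩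
  set y := t / (((nn r s : ℤ) : K) * c s) with hy
  obtain ⟨b, rfl⟩ := hc
  have h6 := E_comm_e (fun s hs => hs) c hr y (L := L14)
  have h7 : (L14.map fun s' => -((nn r s' : ℤ) : K) * c s' * y).sum = -t := by
    have h8 := sum_delta L14_nodup hs (fun s' => -((nn r s' : ℤ) : K) * c s' * y)
    rw [show -t = -((nn r s : ℤ) : K) * c s * y by rw [hy]; field_simp, ← h8]
    congr 1
    refine List.map_congr_left fun s' hs' => ?_
    by_cases h9 : s' = s
    · rw [if_pos h9]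
    · rw [if_neg h9, h4 s' hs' h9, Int.cast_zero, neg_zero, zero_mul, zero_mul]
  rw [h7] at h6
  have h10 : e r y * e 47 b = e 47 b * e r y := comm47 (List.mem_append_left _ (L14_sub r hr)) y b
  have h11 : E L14 c * e 47 (-t) = e 47 (-t) * E L14 c := e47_comm_E (fun s hs => hs) c (-t) (L := L14)
  have h12 : (e 47 (-t) : ↥(chevF4.group K)) = (e 47 t)⁻¹ := ex_neg hF 47 t
  have h13 : e r y * E L14 c = E L14 c * e r y * e 47 t := by
    rw [h6, h12]; group
  have h14 : (E L14 c * e 47 b) * e r y = E L14 c * e r y * e 47 b := by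
    rw [mul_assoc, ← h10]; group
  have h15 : e r y * (E L14 c * e 47 b) = (E L14 c * e 47 b) * e r y * e 47 t := by
    rw [h14, ← mul_assoc, h13, mul_assoc _ (e 47 t), mul_assoc _ (e 47 b), e47_add, e47_add, add_comm]
  have h16 : R ((E L14 c * e 47 b) * e r y) (c + sg r y) :=
    R.mul ⟨b, rfl⟩ (R.sg (L14_sub r hr) y)
  rw [h15, cen_R h16 t, xh_e]
  group

theorem nd' (h2 : (2 : K) ≠ 0) (q : ↥(chevF4.group K)) (hq : q ∈ VK K {k | k ≠ 3}) (hn : q ∉ XT K)
    (z : ↥(chevF4.group K)) (hz : z ∈ XT K) : ∃ q' ∈ VK K {k | k ≠ 3}, q' * q * q'⁻¹ * q⁻¹ = z := by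
  rw [← range_xh] at hn hz
  obtain ⟨t, rfl⟩ := hz
  exact nd h2 q hq hn t.toAdd

/-- scalars -/
theorem scal (k : K) (a : ↥(chevF4.group K)) (ha : a ∈ VK K {k | k ≠ 3}) : ∃ a' ∈ VK K {k | k ≠ 3},
    ∀ b ∈ VK K {k | k ≠ 3}, ∀ t : K, a * b * a⁻¹ * b⁻¹ = xh K (.ofAdd t) →
      a' * b * a'⁻¹ * b⁻¹ = xh K (.ofAdd (k * t)) := by
  obtain ⟨c, hc⟩ := exists_R ha
  refine ⟨E L14 fun s => k * c s, E_mem_VV L14_sub _, fun b hb t ht => ?_⟩
  obtain ⟨d, hd⟩ := exists_R hb
  have h1 : R (E L14 fun s => k * c s) (fun s => k * c s) :=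
    ⟨0, by rw [show (e 47 (0 : K)) = 1 from ex_zero hF 47, mul_one]⟩
  rw [R_commutator hc hd, xh_e] at ht
  rw [R_commutator h1 hd, om_smul, xh_e]
  have h2 : om L14 L14 c d = t := ex_inj hF lt47 ht
  rw [h2]

variable [Finite K]

theorem center_bot : Subgroup.center ↥(chevF4.group K) = ⊥ := by
  obtain ⟨hs, hna⟩ := Cfsg.Agent.S1054.result (F := K) chevF4 (by simp)
  rcases (inferInstance : (Subgroup.center ↥(chevF4.group K)).Normal).eq_bot_or_eq_top with h | h
  · exact h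
  · exfalso
    apply hna
    refine ⟨⟨fun a b => ?_⟩⟩
    have : b ∈ Subgroup.center ↥(chevF4.group K) := by rw [h]; exact Subgroup.mem_top b
    rw [Subgroup.mem_center_iff] at this
    exact this a

/-- the centraliser of `V` -/
theorem cv (s : ↥(chevF4.group K)) (hs : ∀ q ∈ VK K {k | k ≠ 3}, s * q = q * s) : s ∈ VK K {k | k ≠ 3} := by
  obtain ⟨p, hpc⟩ := CharP.exists K
  have : Fact p.Prime := ⟨CharP.char_is_prime K p⟩
  obtain ⟨hsimp, -⟩ := Cfsg.Agent.S1054.result (F := K) chevF4 (by simp)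
  have Rd := rgd (K := K) hF cF p
  have hG := G1_eq_top hF (K := K) cF
  have hN := RgdCent.noCent_of_center Rd hG center_bot
  have hX : RGD.Sup (XX chevF4 4 K) {x | IsRoot cF hF.isCartan x} = ⊤ := by
    rw [eq_top_iff, ← hG]
    exact iSup_le fun x => RGD.le_Sup (X := XX chevF4 4 K) x.2
  have hC := RgdLieCharP.conn_of_simple Rd hX center_bot
  have hGG : GG cF hF.isCartan (TT chevF4 K) (XX chevF4 4 K) = ⊤ := by
    rw [eq_top_iff, ← hG]
    exact le_sup_right
  refine RgdVJ.cent_VJ_le Rd hN hC (J := {k | k ≠ 3}) ?_ ⟨?_, by rw [hGG]; trivial⟩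
  · intro h0
    have h1 : (3 : Fin 4) ∈ ({k | k ≠ 3} : Set (Fin 4)) := by rw [h0]; trivial
    exact h1 rfl
  · exact Subgroup.mem_centralizer_iff.2 fun q hq => (hs q hq).symm

/-- the parabolic subgroup normalises `V` -/
theorem hei_norm {g : ↥(chevF4.group K)} (hg : g ∈ PK K {k | k ≠ 3}) (q : ↥(chevF4.group K)) :
    q ∈ VK K {k | k ≠ 3} ↔ g * q * g⁻¹ ∈ VK K {k | k ≠ 3} := by
  obtain ⟨p, hpc⟩ := CharP.exists K
  have : Fact p.Prime := ⟨CharP.char_is_prime K p⟩
  exact Subgroup.mem_normalizer_iff.1 (PJ_le_normalizer_VJ (rgd (K := K) hF cF p) {k | k ≠ 3} hg) q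

/-- the parabolic subgroup acts on `X_θ` by scalars -/
theorem hei_act {g : ↥(chevF4.group K)} (hg : g ∈ PK K {k | k ≠ 3}) :
    ∃ c : K, c ≠ 0 ∧ ∀ t : K, g * xh K (.ofAdd t) * g⁻¹ = xh K (.ofAdd (c * t)) := by
  let S : Subgroup ↥(chevF4.group K) :=
    { carrier := {g | ∃ c : K, c ≠ 0 ∧ ∀ t : K, g * e 47 t * g⁻¹ = e 47 (c * t)}
      mul_mem' := by
        rintro a b ⟨c, hc, h1⟩ ⟨d, hd, h2⟩
        refine ⟨c * d, mul_ne_zero hc hd, fun t => ?_⟩
        rw [mul_assoc c, ← h1, ← h2]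
        group
      one_mem' := ⟨1, one_ne_zero, fun t => by rw [one_mul, inv_one, mul_one, one_mul]⟩
      inv_mem' := by
        rintro a ⟨c, hc, h1⟩
        refine ⟨c⁻¹, inv_ne_zero hc, fun t => ?_⟩
        have h2 := h1 (c⁻¹ * t)
        rw [← mul_assoc, mul_inv_cancel₀ hc, one_mul] at h2
        rw [← h2]
        group }
  have hT : TT chevF4 K ≤ S := by
    intro t ht
    obtain ⟨h1, h2⟩ := act hF lt47 ht
    exact ⟨_, h1, fun a => by rw [← xc_e, ← xc_e]; exact h2 a⟩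
  have hC : VV K ⊔ MM K ≤ S := by
    intro t ht
    refine ⟨1, one_ne_zero, fun a => ?_⟩
    rw [one_mul, comm_theta ht ((mem_XX_vec hF lt47).2 ⟨a, rfl⟩), mul_inv_cancel_right]
  have hP : PK K {k | k ≠ 3} ≤ S :=
    sup_le (sup_le hT (le_trans le_sup_right hC)) (le_trans le_sup_left hC)
  obtain ⟨c, hc, h1⟩ := hP hg
  exact ⟨c, hc, fun t => by rw [xh_e, xh_e]; exact h1 t⟩

theorem card_V : Nat.card ↥(VK K {k | k ≠ 3}) = Nat.card K ^ 15 := card_VV

end Cfsg.Agent.H374.FR.Comm
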